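import Groth.Agent.FlatCxLib.DvrComplex
import Groth.Agent.FlatCxLib.BaseChange
import Groth.Agent.CohBCLib.UnivBC
import Groth.Agent.CohBCLib.Global

/-!
# Fibre ranks of a universal complex over a discrete valuation ring
-/

set_option autoImplicit false
set_option maxHeartbeats 1000000
universe u

open CategoryTheory CategoryTheory.Limits AlgebraicGeometry TensorProduct

noncomputable section

namespace DvrBettiLib

/-- The rank at a point may be computed in any field over the residue field. -/
theorem finrank_bc_eq_dRank {A : Type u} [CommRing A] (P : ChainComplex (ModuleCat.{u} A) ℤ) (p : ℤ)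
    (x : PrimeSpectrum A) (K' : Type u) [Field K'] [Algebra A K']
    (h : RingHom.ker (algebraMap A K') = x.asIdeal) :
    Module.finrank K' ((CohIII.bcCx (algebraMap A K') P).homology p) = CohIII.dRank P p x := by
  let K := x.asIdeal.ResidueField
  let φ : K →+* K' := Ideal.ResidueField.lift x.asIdeal (algebraMap A K') h.ge fun a ha =>
    isUnit_iff_ne_zero.2 fun h0 => ha (h ▸ (show a ∈ RingHom.ker (algebraMap A K') from h0))
  letI : Algebra K K' := φ.toAlgebra
  have : IsScalarTower A K K' := IsScalarTower.of_algebraMap_eq fun a => by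
    rw [RingHom.algebraMap_toAlgebra]
    exact (Ideal.ResidueField.lift_algebraMap _ _ _ _ a).symm
  let c : ∀ i, K' ⊗[A] P.X i ≃ₗ[K'] K' ⊗[K] (K ⊗[A] P.X i) := fun i =>
    (TensorProduct.AlgebraTensorModule.cancelBaseChange A K K' K' (P.X i)).symm
  have hc : ∀ i j z, c j ((P.d i j).hom.baseChange K' z) =
      ((P.d i j).hom.baseChange K).baseChange K' (c i z) := fun i j z => by
    apply (TensorProduct.AlgebraTensorModule.cancelBaseChange A K K' K' (P.X j)).injective
    rw [LinearEquiv.apply_symm_apply, FlatCxLib.cancelBaseChange_baseChange,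
      LinearEquiv.apply_symm_apply]
  have hfg : (P.d p (p - 1)).hom.baseChange K ∘ₗ (P.d (p + 1) p).hom.baseChange K = 0 := by
    rw [← LinearMap.baseChange_comp, FlatCxLib.d_comp_d_hom, LinearMap.baseChange_zero]
  have E := ((FlatCxLib.homologyBcEquiv (B := K') P p (p - 1) (by omega)).trans
    (FlatCxLib.hmCongr (c _) (c _) (c _) (hc _ _) (hc _ _))).trans
    (FlatCxLib.hmBaseChange K' _ _ hfg)
  refine E.finrank_eq.trans ?_
  rw [Module.finrank_baseChange]
  exact (FlatCxLib.homologyBcEquiv P p (p - 1) (by omega)).finrank_eq.symm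

/-- The homology of the universal complex is the cohomology. -/
theorem nonempty_homology_iso {A : Type u} [CommRing A] {X : Scheme.{u}} (f : X ⟶ Spec (CommRingCat.of A))
    (F : X.Modules) [Coh.IsQCoh F] (U : CohBCLib.Univ f F) (p : ℕ) :
    Nonempty (U.P.homology (-(p : ℤ)) ≅ (CohBCLib.HA f p).obj F) :=
  ⟨(HomologicalComplex.homologyFunctor _ _ _).mapIso (CohBCLib.tensorUnitIso U.P).symm ≪≫
    (U.iso p).app (ModuleCat.of A A) ≪≫ (CohBCLib.HA f p).mapIso (CohBCLib.tAUnitIso f F)⟩

end DvrBettiLib
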